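import Groth.Agent.Lib.FlatTensorCoh.Main
import Mathlib.RingTheory.Finiteness.Projective
import Mathlib.CategoryTheory.Idempotents.Basic
import Mathlib.Topology.Sheaves.SheafCondition.Sites

/-!
# Finite projective modules tensor through `Ext`, in every degree and for every object
-/

set_option autoImplicit false
set_option linter.style.haveILetI false
universe u w

open CategoryTheory CategoryTheory.Limits CategoryTheory.Abelian TensorProduct AlgebraicGeometry Opposite

noncomputable section

namespace GrothLib.FlatTensorCoh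

section Algebraic

variable {C : Type w} [Category.{u} C] [Abelian C] [HasExt.{u} C]
variable {A : Type u} [CommRing A] {M : Type u} [AddCommGroup M] [Module A M] {F T : C} (d : Dat A M F T)

/-- With a dual basis at the level of morphisms, the comparison is bijective. -/
theorem good_of_dual {k : ℕ} (e : Fin k → M) (c : Fin k → M →ₗ[A] A) (π : Fin k → (T ⟶ F))
    (he : ∀ m, ∑ j, c j m • e j = m) (hπ : ∀ j m, d.φ m ≫ π j = d.act (c j m))
    (hid : ∑ j, π j ≫ d.φ (e j) = 𝟙 T) (Y : C) : Good d Y := by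
  intro n
  let inv : Ext.{u} Y T n → M ⊗[A] EF d Y n := fun y =>
    ∑ j, e j ⊗ₜ[A] (show EF d Y n from y.comp (Ext.mk₀ (π j)) (add_zero n))
  have hl : ∀ z, inv (cmp d Y n z) = z := by
    intro z
    induction z using TensorProduct.induction_on with
    | zero => simp [inv]; exact Finset.sum_eq_zero fun j _ => tmul_zero _ _
    | add z w hz hw =>
      show ∑ j, _ = _
      simp only [map_add, Ext.add_comp]
      refine Eq.trans ?_ (congrArg₂ (· + ·) hz hw)
      rw [← Finset.sum_add_distrib]
      exact Finset.sum_congr rfl fun j _ => tmul_add _ _ _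
    | tmul m x =>
      show ∑ j, e j ⊗ₜ[A] (show EF d Y n from ((show Ext.{u} Y F n from x).comp (Ext.mk₀ (d.φ m)) (add_zero n)).comp
        (Ext.mk₀ (π j)) (add_zero n)) = _
      conv_rhs => rw [← he m, TensorProduct.sum_tmul]
      refine Finset.sum_congr rfl fun j _ => ?_
      rw [Ext.comp_assoc_of_second_deg_zero, Ext.mk₀_comp_mk₀, hπ]
      exact (TensorProduct.smul_tmul (c j m) (e j) x).symm
  refine ⟨Function.LeftInverse.injective hl, fun y => ⟨inv y, ?_⟩⟩
  show cmp d Y n (∑ j, _) = y
  rw [map_sum]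
  have key : ∑ j, y.comp (Ext.mk₀ (π j ≫ d.φ (e j))) (add_zero n) = y := by
    have h1 := congrArg (fun t : T ⟶ T => y.comp (Ext.mk₀ t) (add_zero n)) hid
    simp only [Ext.mk₀_sum, Ext.comp_sum, Ext.comp_mk₀_id] at h1
    exact h1
  refine Eq.trans (Finset.sum_congr rfl fun j _ => ?_) key
  rw [cmp_tmul, Ext.comp_assoc_of_second_deg_zero, Ext.mk₀_comp_mk₀]

/-- For a finite projective module there is a universal target. -/
theorem exists_model [Module.Finite A M] [Module.Projective A M] :
    ∃ (T₀ : C) (d₀ : Dat A M F T₀) (α : T₀ ⟶ T), d₀.act = d.act ∧ (∀ m, d₀.φ m ≫ α = d.φ m) ∧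
      ∀ Y, Good d₀ Y := by
  haveI : HasFiniteBiproducts C := HasFiniteBiproducts.of_hasFiniteProducts
  obtain ⟨k, f, g, -, -, hfg⟩ := Module.Finite.exists_comp_eq_id_of_projective A M
  let e : Fin k → M := fun j => f (Pi.single j 1)
  let c : Fin k → M →ₗ[A] A := fun j => LinearMap.proj j ∘ₗ g
  have he : ∀ m, ∑ j, c j m • e j = m := fun m => by
    have h := LinearMap.congr_fun hfg m
    simp only [LinearMap.comp_apply, LinearMap.id_apply] at h
    conv_rhs => rw [← h, pi_eq_sum_univ' (g m), map_sum]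
    exact Finset.sum_congr rfl fun j _ => (map_smul f _ _).symm
  let p : (⨁ fun _ : Fin k => F) ⟶ ⨁ fun _ : Fin k => F :=
    biproduct.matrix fun i j => d.act (c j (e i))
  have hact : ∀ a b : A, d.act a ≫ d.act b = d.act (b * a) := fun a b => by rw [map_mul]; rfl
  have hsum : ∀ s : Fin k → A, ∑ i, d.act (s i) = d.act (∑ i, s i) := fun s => (map_sum d.act _ _).symm
  have hlift : ∀ m, biproduct.lift (fun i => d.act (c i m)) ≫ p = biproduct.lift (fun i => d.act (c i m)) := by
    intro m
    apply biproduct.hom_ext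
    intro j
    rw [Category.assoc, biproduct.matrix_π, biproduct.lift_desc, biproduct.lift_π]
    simp only [hact]
    rw [hsum]
    refine congrArg d.act ?_
    conv_rhs => rw [← he m, map_sum]
    exact Finset.sum_congr rfl fun i _ => by rw [map_smul, smul_eq_mul, mul_comm]
  have hι : ∀ i, biproduct.ι (fun _ : Fin k => F) i ≫ p = biproduct.lift (fun j => d.act (c j (e i))) :=
    fun i => by rw [biproduct.ι_matrix]
  have hp : p ≫ p = p := by
    apply biproduct.hom_ext'
    intro i
    rw [← Category.assoc, hι, hlift]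
  obtain ⟨T₀, i, q, hiq, hqi⟩ := IsIdempotentComplete.idempotents_split _ p hp
  let d₀ : Dat A M F T₀ :=
    { act := d.act
      φ := AddMonoidHom.mk' (fun m => biproduct.lift (fun j => d.act (c j m)) ≫ q) fun m m' => by
        rw [← Preadditive.add_comp]
        refine congrArg (· ≫ q) ?_
        apply biproduct.hom_ext
        intro j
        simp only [biproduct.lift_π, Preadditive.add_comp, map_add]
      bal := fun a m => by
        show biproduct.lift (fun j => d.act (c j (a • m))) ≫ q = d.act a ≫ biproduct.lift (fun j => d.act (c j m)) ≫ q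
        rw [← Category.assoc]
        refine congrArg (· ≫ q) ?_
        apply biproduct.hom_ext
        intro j
        simp only [biproduct.lift_π, Category.assoc, map_smul, smul_eq_mul, hact, mul_comm a] }
  have hpd : p ≫ biproduct.desc (fun j => d.φ (e j)) = biproduct.desc (fun j => d.φ (e j)) := by
    apply biproduct.hom_ext'
    intro l
    rw [← Category.assoc, hι, biproduct.lift_desc, biproduct.ι_desc]
    simp only [← d.bal]
    rw [← map_sum, he]
  refine ⟨T₀, d₀, i ≫ biproduct.desc (fun j => d.φ (e j)), rfl, fun m => ?_,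
    good_of_dual d₀ e c (fun j => i ≫ biproduct.π _ j) he (fun j m => ?_) ?_⟩
  · show (biproduct.lift (fun j => d.act (c j m)) ≫ q) ≫ i ≫ _ = _
    rw [Category.assoc, reassoc_of% hqi, hpd, biproduct.lift_desc]
    simp only [← d.bal]
    rw [← map_sum, he]
  · show (biproduct.lift (fun l => d.act (c l m)) ≫ q) ≫ i ≫ _ = d.act (c j m)
    rw [Category.assoc, reassoc_of% hqi, ← Category.assoc, hlift, biproduct.lift_π]
  · have h1 : ∑ j, biproduct.π (fun _ : Fin k => F) j ≫ biproduct.lift (fun l => d.act (c l (e j))) = p := by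
      simp only [← hι, ← Category.assoc, ← Preadditive.sum_comp, biproduct.total, Category.id_comp]
    show ∑ j, (i ≫ biproduct.π _ j) ≫ biproduct.lift (fun l => d.act (c l (e j))) ≫ q = 𝟙 T₀
    simp only [Category.assoc, ← Preadditive.comp_sum]
    simp only [← Category.assoc (biproduct.π _ _), ← Preadditive.sum_comp]
    rw [h1, ← hqi, Category.assoc, hiq, Category.comp_id, hiq]

end Algebraic

section Scheme

variable {A : Type u} [CommRing A] {M : Type u} [AddCommGroup M] [Module A M] {X : Scheme.{u}}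
  {F₀ T₀ : Cohom.AbSheaf X} (d : Dat A M F₀ T₀)

/-- Postcomposition with an isomorphism. -/
def extPostIso {T₂ T₃ : Cohom.AbSheaf X} (e : T₂ ≅ T₃) (Y : Cohom.AbSheaf X) (n : ℕ) :
    Ext.{u} Y T₂ n ≃+ Ext.{u} Y T₃ n :=
  { toFun := fun y => y.comp (Ext.mk₀ e.hom) (add_zero n)
    invFun := fun y => y.comp (Ext.mk₀ e.inv) (add_zero n)
    left_inv := fun y => by simp
    right_inv := fun y => by simp
    map_add' := fun _ _ => Ext.add_comp .. }

/-- A finite projective module: no hypothesis on the scheme is needed. -/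
theorem good_of_projective [Module.Finite A M] [Module.Projective A M]
    (hd : ∀ {U : X.Opens}, IsAffineOpen U → Good d (Cohom.freeFun.obj U)) (Y : Cohom.AbSheaf X) :
    Good d Y := by
  obtain ⟨T₁, d₁, α, hact, hα, h₁⟩ := exists_model d
  obtain ⟨act₁, φ₁, bal₁⟩ := d₁
  dsimp only at hact hα
  subst hact
  let d₁ : Dat A M F₀ T₁ := ⟨d.act, φ₁, bal₁⟩
  have hcmp : ∀ (Z : Cohom.AbSheaf X) (n : ℕ) (z : M ⊗[A] EF d Z n),
      cmp d Z n z = (cmp d₁ Z n z).comp (Ext.mk₀ α) (add_zero n) := by
    intro Z n z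
    induction z using TensorProduct.induction_on with
    | zero =>
      exact ((map_zero (cmp d Z n)).trans (Ext.zero_comp ..).symm).trans
        (congrArg (fun y : Ext.{u} Z T₁ n => y.comp (Ext.mk₀ α) (add_zero n)) (map_zero (cmp d₁ Z n)).symm)
    | add z w hz hw =>
      exact ((map_add (cmp d Z n) z w).trans ((congrArg₂ (· + ·) hz hw).trans (Ext.add_comp ..).symm)).trans
        (congrArg (fun y : Ext.{u} Z T₁ n => y.comp (Ext.mk₀ α) (add_zero n)) (map_add (cmp d₁ Z n) z w).symm)
    | tmul m x =>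
      show _ = ((show Ext.{u} Z F₀ n from x).comp (Ext.mk₀ (φ₁ m)) (add_zero n)).comp (Ext.mk₀ α) (add_zero n)
      rw [cmp_tmul, Ext.comp_assoc_of_second_deg_zero, Ext.mk₀_comp_mk₀, hα]
  have hiso : IsIso α := by
    refine TopCat.Sheaf.isIso_iff_isIso_basis (C := AddCommGrpCat.{u}) (X := X.carrier)
      (B := fun U : X.affineOpens => U.1) (by rw [show Set.range (fun U : X.affineOpens => U.1) = X.affineOpens from Subtype.range_coe]; exact X.isBasis_affineOpens)
      (φ := α) fun U => ?_
    rw [ConcreteCategory.isIso_iff_bijective]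
    have e₁ := h₁ (Cohom.freeFun.obj U.1) 0
    have e₂ := hd U.2 0
    rw [show ⇑(cmp d (Cohom.freeFun.obj U.1) 0) =
      (fun y => y.comp (Ext.mk₀ α) (add_zero 0)) ∘ ⇑(cmp d₁ (Cohom.freeFun.obj U.1) 0) from
      funext (hcmp _ 0)] at e₂
    have e₃ := (Function.Bijective.of_comp_iff _ e₁).1 e₂
    have e₄ : ∀ y, Cohom.H0Equiv T₀ U.1 (y.comp (Ext.mk₀ α) (add_zero 0)) =
        α.hom.app (op U.1) (Cohom.H0Equiv T₁ U.1 y) := fun y => by
      obtain ⟨φ, rfl⟩ := (Ext.mk₀_bijective _ _).2 y
      rw [Ext.mk₀_comp_mk₀, Cohom.H0Equiv_mk₀, Cohom.H0Equiv_mk₀, Cohom.sectionsEquiv_comp]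
    have e₅ : ⇑(α.hom.app (op U.1)) =
        Cohom.H0Equiv T₀ U.1 ∘ (fun y => y.comp (Ext.mk₀ α) (add_zero 0)) ∘ (Cohom.H0Equiv T₁ U.1).symm :=
      funext fun t => by simp only [Function.comp_apply, e₄, AddEquiv.apply_symm_apply]
    show Function.Bijective ⇑(α.hom.app (op U.1))
    rw [e₅]
    exact (AddEquiv.bijective _).comp (e₃.comp (AddEquiv.bijective _))
  intro n
  rw [show ⇑(cmp d Y n) = _ from funext (hcmp Y n)]
  exact ((extPostIso (asIso α) Y n).bijective.comp (h₁ Y n) :)

end Scheme

end GrothLib.FlatTensorCoh
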